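import Groth.Agent.Lib.Deligne19.Step
import Mathlib.CategoryTheory.Functor.OfSequence
import Mathlib.CategoryTheory.Limits.Types.Filtered
import Mathlib.CategoryTheory.Limits.FunctorCategory.Basic
import Mathlib.CategoryTheory.Functor.TypeValuedFlat
import Mathlib.CategoryTheory.Limits.Preserves.Limits

/-!
Deligne's theorem: a small site with finite limits whose covering sieves are finitely generated
has enough points.
-/

universe u

set_option backward.isDefEq.respectTransparency false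
set_option linter.unusedSectionVars false

open CategoryTheory Limits Opposite ConcreteCategory

namespace GrothLib.Deligne19

variable {C : Type u} [SmallCategory C] [HasFiniteLimits C] {J : GrothendieckTopology C}

/-- A flat functor with an element avoiding `S`. -/
structure Stage {U : C} (J : GrothendieckTopology C) (S : Sieve U) : Type (u + 1) where
  P : C ⥤ Type u
  [flat : IsCofiltered P.Elements]
  x₀ : P.obj U
  avoids : Avoids (J := J) S P x₀

attribute [instance] Stage.flat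

section Seq

variable {U : C} {S : Sieve U}

/-- The first stage: the functor represented by `U`. -/
theorem nonempty_stage (hS : S ∉ J U) : Nonempty (Stage J S) := by
  haveI : IsCofiltered ((coyoneda.obj (op U)).Elements) :=
    Functor.isCofiltered_elements _
  refine ⟨⟨coyoneda.obj (op U), 𝟙 U, fun Z u hu => hS ?_⟩⟩
  obtain ⟨Y, y⟩ := Z
  obtain ⟨f, hf⟩ := u
  change y ≫ f = 𝟙 U at hf
  have h2 := J.pullback_stable y hu
  rw [← Sieve.pullback_comp, hf, Sieve.pullback_id] at h2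
  exact h2

/-- The successor stage. -/
noncomputable def Stage.next (s : Stage J S) : Stage J S :=
  haveI := (exists_step s.avoids).choose_spec.choose
  ⟨(exists_step s.avoids).choose, (exists_step s.avoids).choose_spec.choose_spec.choose.app U s.x₀,
    (exists_step s.avoids).choose_spec.choose_spec.choose_spec.1⟩

/-- The map to the successor stage. -/
noncomputable def Stage.toNext (s : Stage J S) : s.P ⟶ s.next.P :=
  (exists_step s.avoids).choose_spec.choose_spec.choose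

lemma Stage.toNext_x₀ (s : Stage J S) : s.toNext.app U s.x₀ = s.next.x₀ := rfl

lemma Stage.toNext_spec (s : Stage J S) ⦃W : C⦄ (x : s.P.obj W) (n : ℕ) (V : Fin n → C)
    (g : ∀ k, V k ⟶ W) (hg : Sieve.ofArrows V g ∈ J W) :
    ∃ (k : Fin n) (y : s.next.P.obj (V k)), s.next.P.map (g k) y = s.toNext.app W x :=
  (exists_step s.avoids).choose_spec.choose_spec.choose_spec.2 x n V g hg

variable (s₀ : Stage J S)

/-- The sequence of stages. -/
noncomputable def stage : ℕ → Stage J S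
  | 0 => s₀
  | n + 1 => (stage n).next

/-- The sequence of functors. -/
noncomputable def seq : ℕ ⥤ C ⥤ Type u :=
  Functor.ofSequence (X := fun n => (stage s₀ n).P) fun n => (stage s₀ n).toNext

lemma seq_map_succ (n : ℕ) :
    (seq s₀).map (homOfLE (Nat.le_add_right n 1)) = (stage s₀ n).toNext :=
  Functor.ofSequence_map_homOfLE_succ (X := fun n => (stage s₀ n).P)
    (fun n => (stage s₀ n).toNext) n

/-- The fibre functor of the point. -/
noncomputable def lim : C ⥤ Type u := colimit (seq s₀)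

/-- The maps to the fibre functor. -/
noncomputable def ι (n : ℕ) {W : C} (x : (stage s₀ n).P.obj W) : (lim s₀).obj W :=
  (colimit.ι (seq s₀) n).app W x

/-- The transition maps. -/
noncomputable def tr {n m : ℕ} (h : n ≤ m) {W : C} (x : (stage s₀ n).P.obj W) :
    (stage s₀ m).P.obj W :=
  ((seq s₀).map (homOfLE h)).app W x

lemma ι_tr {n m : ℕ} (h : n ≤ m) {W : C} (x : (stage s₀ n).P.obj W) :
    ι s₀ m (tr s₀ h x) = ι s₀ n x :=
  congr_hom (congr_app (colimit.w (seq s₀) (homOfLE h)) W) x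

lemma ι_map (n : ℕ) {W W' : C} (f : W ⟶ W') (x : (stage s₀ n).P.obj W) :
    ι s₀ n ((stage s₀ n).P.map f x) = (lim s₀).map f (ι s₀ n x) :=
  congr_hom ((colimit.ι (seq s₀) n).naturality f) x

lemma tr_map {n m : ℕ} (h : n ≤ m) {W W' : C} (f : W ⟶ W') (x : (stage s₀ n).P.obj W) :
    tr s₀ h ((stage s₀ n).P.map f x) = (stage s₀ m).P.map f (tr s₀ h x) :=
  congr_hom (((seq s₀).map (homOfLE h)).naturality f) x

lemma tr_tr {n m l : ℕ} (h : n ≤ m) (h' : m ≤ l) {W : C} (x : (stage s₀ n).P.obj W) :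
    tr s₀ h' (tr s₀ h x) = tr s₀ (h.trans h') x :=
  (congr_hom (congr_app ((seq s₀).map_comp (homOfLE h) (homOfLE h')) W) x).symm

/-- The evaluated colimit cocone. -/
noncomputable def isColimitEval (W : C) :
    IsColimit (((evaluation C (Type u)).obj W).mapCocone (colimit.cocone (seq s₀))) :=
  isColimitOfPreserves _ (colimit.isColimit _)

lemma exists_ι {W : C} (x : (lim s₀).obj W) : ∃ n y, ι s₀ n y = x :=
  Types.jointly_surjective_of_isColimit (isColimitEval s₀ W) x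

lemma ι_eq_iff {n : ℕ} {W : C} {x y : (stage s₀ n).P.obj W} (h : ι s₀ n x = ι s₀ n y) :
    ∃ (m : ℕ) (hm : n ≤ m), tr s₀ hm x = tr s₀ hm y := by
  obtain ⟨m, f, hf⟩ := (Types.FilteredColimit.isColimit_eq_iff' (isColimitEval s₀ W) x y).1 h
  exact ⟨m, leOfHom f, hf⟩

lemma x₀_tr (n : ℕ) : tr s₀ (Nat.zero_le n) s₀.x₀ = (stage s₀ n).x₀ := by
  induction n with
  | zero =>
      exact congr_hom (congr_app ((seq s₀).map_id 0) U) s₀.x₀
  | succ n ih =>
      rw [← tr_tr s₀ (Nat.zero_le n) (Nat.le_succ n), ih]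
      exact congr_hom (congr_app (seq_map_succ s₀ n) U) (stage s₀ n).x₀

instance : IsCofiltered (lim s₀).Elements where
  nonempty := by
    obtain ⟨⟨W, x⟩⟩ := IsCofiltered.nonempty (C := s₀.P.Elements)
    exact ⟨⟨W, ι s₀ 0 x⟩⟩
  cone_objs := by
    rintro ⟨X, x⟩ ⟨Y, y⟩
    obtain ⟨n, x, rfl⟩ := exists_ι s₀ x
    obtain ⟨m, y, rfl⟩ := exists_ι s₀ y
    obtain ⟨⟨Z, z⟩, ⟨f, hf⟩, ⟨g, hg⟩, -⟩ := IsCofilteredOrEmpty.cone_objs
      ((stage s₀ (max n m)).P.elementsMk X (tr s₀ (le_max_left n m) x))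
      ((stage s₀ (max n m)).P.elementsMk Y (tr s₀ (le_max_right n m) y))
    refine ⟨⟨Z, ι s₀ _ z⟩, ⟨f, ?_⟩, ⟨g, ?_⟩, trivial⟩
    · rw [← ι_map, hf]; exact ι_tr s₀ _ x
    · rw [← ι_map, hg]; exact ι_tr s₀ _ y
  cone_maps := by
    rintro ⟨X, x⟩ ⟨Y, y⟩ ⟨f, hf⟩ ⟨g, hg⟩
    obtain ⟨n, x, rfl⟩ := exists_ι s₀ x
    dsimp at f g hf hg
    rw [← ι_map] at hf hg
    obtain ⟨m, hm, e⟩ := ι_eq_iff s₀ (hf.trans hg.symm)
    rw [tr_map, tr_map] at e
    obtain ⟨⟨Z, z⟩, ⟨h, hh⟩, he⟩ := IsCofilteredOrEmpty.cone_maps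
      (X := (stage s₀ m).P.elementsMk X (tr s₀ hm x))
      (Y := (stage s₀ m).P.elementsMk Y ((stage s₀ m).P.map f (tr s₀ hm x)))
      (CategoryOfElements.homMk _ _ f rfl) (CategoryOfElements.homMk _ _ g e.symm)
    refine ⟨⟨Z, ι s₀ m z⟩, ⟨h, ?_⟩, CategoryOfElements.ext _ _ _ (congrArg Subtype.val he :)⟩
    rw [← ι_map, hh]; exact ι_tr s₀ hm x

/-- The point. -/
noncomputable def point
    (hJ : ∀ (W : C) (R : Sieve W), R ∈ J W →
      ∃ (n : ℕ) (V : Fin n → C) (g : ∀ k, V k ⟶ W), (∀ k, R (g k)) ∧ Sieve.ofArrows V g ∈ J W) :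
    GrothendieckTopology.Point.{u} J where
  fiber := lim s₀
  initiallySmall := initiallySmall_of_essentiallySmall _
  jointly_surjective {W} R hR x := by
    obtain ⟨n, x, rfl⟩ := exists_ι s₀ x
    obtain ⟨m, V, g, hg, hcov⟩ := hJ W R hR
    obtain ⟨k, y, hy⟩ := (stage s₀ n).toNext_spec x m V g hcov
    refine ⟨V k, g k, hg k, ι s₀ (n + 1) y, ?_⟩
    rw [← ι_map, show (stage s₀ (n + 1)).P.map (g k) y = tr s₀ (Nat.le_add_right n 1) x from ?_,
      ι_tr]
    exact hy.trans (congr_hom (congr_app (seq_map_succ s₀ n) W) x).symm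

lemma point_avoids
    (hJ : ∀ (W : C) (R : Sieve W), R ∈ J W →
      ∃ (n : ℕ) (V : Fin n → C) (g : ∀ k, V k ⟶ W), (∀ k, R (g k)) ∧ Sieve.ofArrows V g ∈ J W)
    {Y : C} (f : Y ⟶ U) (hf : S f) (y : (point s₀ hJ).fiber.obj Y) :
    (point s₀ hJ).fiber.map f y ≠ ι s₀ 0 s₀.x₀ := by
  intro h
  obtain ⟨n, y, rfl⟩ := exists_ι s₀ (W := Y) y
  have h' : ι s₀ n ((stage s₀ n).P.map f y) = ι s₀ n (tr s₀ (Nat.zero_le n) s₀.x₀) := by
    rw [ι_tr, ι_map]
    exact h
  obtain ⟨m, hm, e⟩ := ι_eq_iff s₀ h'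
  rw [tr_map, tr_tr, x₀_tr] at e
  refine (stage s₀ m).avoids ⟨Y, tr s₀ hm y⟩ ⟨f, e⟩ ?_
  rw [show S.pullback f = ⊤ from Sieve.pullback_eq_top_of_mem _ hf]
  exact J.top_mem Y

end Seq

/-- **Deligne's theorem.** -/
theorem hasEnoughPoints
    (hJ : ∀ (W : C) (R : Sieve W), R ∈ J W →
      ∃ (n : ℕ) (V : Fin n → C) (g : ∀ k, V k ⟶ W), (∀ k, R (g k)) ∧ Sieve.ofArrows V g ∈ J W) :
    GrothendieckTopology.HasEnoughPoints.{u} J := by
  classical
  let ι' := Σ U : C, {S : Sieve U // S ∉ J U}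
  let s₀ : ∀ i : ι', Stage J i.2.1 := fun i => (nonempty_stage i.2.2).some
  let Φ : ι' → GrothendieckTopology.Point.{u} J := fun i => point (s₀ i) hJ
  refine ⟨⟨ObjectProperty.ofObj Φ, inferInstance,
    ObjectProperty.IsConservativeFamilyOfPoints.mk' fun U S h => ?_⟩⟩
  by_contra hS
  obtain ⟨Y, f, hf, y, hy⟩ := h ⟨_, ObjectProperty.ofObj_apply Φ ⟨U, S, hS⟩⟩
    (ι (s₀ ⟨U, S, hS⟩) 0 (s₀ ⟨U, S, hS⟩).x₀)
  exact point_avoids (s₀ ⟨U, S, hS⟩) hJ f hf y hy

end GrothLib.Deligne19
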