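import Mathlib.CategoryTheory.Sites.Point.OfIsCofiltered
import Mathlib.CategoryTheory.Sites.Point.Conservative
import Mathlib.CategoryTheory.Limits.Shapes.FiniteProducts
import Mathlib.CategoryTheory.Limits.Shapes.Pullback.HasPullback
import Mathlib.Combinatorics.Compactness

/-!
Deligne's theorem (sites with finite limits and finitary coverings have enough points), the step:
a flat functor avoiding a sieve `S` maps to one in which every element lifts along every finite
covering family, and which still avoids `S`.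
-/

universe u

set_option backward.isDefEq.respectTransparency false
set_option linter.unusedSectionVars false

open CategoryTheory Limits Opposite

namespace GrothLib.Deligne19

variable {C : Type u} [SmallCategory C] [HasFiniteLimits C] {J : GrothendieckTopology C}

/-- The element `x₀` of `P` at `U` avoids the closure of the sieve `S`. -/
def Avoids {U : C} (S : Sieve U) (P : C ⥤ Type u) (x₀ : P.obj U) : Prop :=
  ∀ (Z : P.Elements) (u : Z ⟶ P.elementsMk U x₀), S.pullback u.val ∉ J Z.1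

/-- An element of `P` together with a finite covering family of its base. -/
structure Task (J : GrothendieckTopology C) (P : C ⥤ Type u) : Type u where
  tgt : P.Elements
  n : ℕ
  V : Fin n → C
  g : ∀ k, V k ⟶ tgt.1
  cov : Sieve.ofArrows V g ∈ J tgt.1

lemma finset_inf_mem {X : C} {ι : Type*} (T : Finset ι) (R : ι → Sieve X)
    (hR : ∀ i ∈ T, R i ∈ J X) : T.inf R ∈ J X := by
  classical
  induction T using Finset.induction with
  | empty => simpa using J.top_mem X
  | insert a s ha ih =>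
      rw [Finset.inf_insert]
      exact J.intersection_covering (hR a (Finset.mem_insert_self a s))
        (ih fun i hi => hR i (Finset.mem_insert_of_mem hi))

lemma finset_inf_apply {X Y : C} {ι : Type*} (T : Finset ι) (R : ι → Sieve X) (f : Y ⟶ X)
    (h : (T.inf R) f) {i : ι} (hi : i ∈ T) : R i f :=
  (Finset.inf_le hi : T.inf R ≤ R i) f h

variable (J) in
/-- The choice `c` of members of the covering families in `T` keeps `S` avoided. -/
def Good {U : C} (S : Sieve U) (P : C ⥤ Type u) (x₀ : P.obj U) (T : Finset (Task J P))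
    (c : ∀ t : T, Fin t.1.n) : Prop :=
  ∀ (Z : P.Elements) (a : ∀ t : T, Z ⟶ t.1.tgt) (u : Z ⟶ P.elementsMk U x₀),
    ∃ (Y : C) (h : Y ⟶ Z.1) (b : ∀ t : T, Y ⟶ t.1.V (c t)),
      (∀ t, b t ≫ t.1.g (c t) = h ≫ (a t).val) ∧ S.pullback (h ≫ u.val) ∉ J Y

variable {U : C} {S : Sieve U} {P : C ⥤ Type u} {x₀ : P.obj U} [IsCofiltered P.Elements]

theorem exists_good (hx : Avoids (J := J) S P x₀) (T : Finset (Task J P)) :
    ∃ c, Good J S P x₀ T c := by
  classical
  by_contra hcon
  simp only [Good, not_exists, not_forall, not_and, not_not] at hcon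
  choose Z a u hb using hcon
  let x : P.Elements := P.elementsMk U x₀
  let O : Finset P.Elements :=
    (Finset.univ.image Z) ∪ (insert x (T.image (fun t => t.tgt)))
  have hZ : ∀ c, Z c ∈ O := fun c =>
    Finset.mem_union_left _ (Finset.mem_image_of_mem _ (Finset.mem_univ c))
  have hxO : x ∈ O := Finset.mem_union_right _ (Finset.mem_insert_self _ _)
  have htO : ∀ t : T, t.1.tgt ∈ O := fun t => Finset.mem_union_right _
    (Finset.mem_insert_of_mem (Finset.mem_image_of_mem _ t.2))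
  let H : Finset (Σ' (X Y : P.Elements) (_ : X ∈ O) (_ : Y ∈ O), X ⟶ Y) :=
    (Finset.univ.image fun c => ⟨Z c, x, hZ c, hxO, u c⟩) ∪
      (Finset.univ.image fun (p : (∀ t : T, Fin t.1.n) × T) =>
        ⟨Z p.1, p.2.1.tgt, hZ p.1, htO p.2, a p.1 p.2⟩)
  obtain ⟨Z₀, π, hπ⟩ := IsCofiltered.inf_exists O H
  have hu : ∀ c, π (hZ c) ≫ u c = π hxO := fun c => hπ (hZ c) hxO
    (Finset.mem_union_left _ (Finset.mem_image_of_mem _ (Finset.mem_univ c)))
  have ha : ∀ c t, π (hZ c) ≫ a c t = π (htO t) := fun c t => hπ (hZ c) (htO t)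
    (Finset.mem_union_right _ (Finset.mem_image.2 ⟨(c, t), Finset.mem_univ _, rfl⟩))
  refine hx Z₀ (π hxO) (J.transitive (finset_inf_mem (J := J) Finset.univ
    (fun t : T => (Sieve.ofArrows t.1.V t.1.g).pullback (π (htO t)).val)
    (fun t _ => J.pullback_stable _ t.1.cov)) _ fun Y h hh => ?_)
  have hlift : ∀ t : T, ∃ (k : Fin t.1.n) (b : Y ⟶ t.1.V k),
      b ≫ t.1.g k = h ≫ (π (htO t)).val := fun t => by
    have hh' := finset_inf_apply _ _ h hh (Finset.mem_univ t)
    rw [Sieve.pullback_apply, Sieve.mem_ofArrows_iff] at hh'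
    obtain ⟨k, b, hk⟩ := hh'
    exact ⟨k, b, hk.symm⟩
  choose c b hc using hlift
  have key := hb c Y (h ≫ (π (hZ c)).val) b (fun t => by
    rw [hc t, Category.assoc, ← CategoryOfElements.comp_val, ha c t])
  rw [Category.assoc, ← CategoryOfElements.comp_val, hu c] at key
  rwa [← Sieve.pullback_comp]

theorem good_mono {T T' : Finset (Task J P)} (hT : T ⊆ T') (c : ∀ t : T', Fin t.1.n)
    (hc : Good J S P x₀ T' c) :
    Good J S P x₀ T (fun t => c ⟨t.1, hT t.2⟩) := by
  classical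
  intro Z a u
  let O : Finset P.Elements := insert Z ((T'.image (fun t => t.tgt)))
  have hZ : Z ∈ O := Finset.mem_insert_self _ _
  have htO : ∀ t : T', t.1.tgt ∈ O :=
    fun t => Finset.mem_insert_of_mem (Finset.mem_image_of_mem _ t.2)
  let H : Finset (Σ' (X Y : P.Elements) (_ : X ∈ O) (_ : Y ∈ O), X ⟶ Y) :=
    Finset.univ.image fun t : T => ⟨Z, t.1.tgt, hZ, htO ⟨t.1, hT t.2⟩, a t⟩
  obtain ⟨Z₀, π, hπ⟩ := IsCofiltered.inf_exists O H
  obtain ⟨Y, h, b, hb, hS⟩ := hc Z₀ (fun t => π (htO t)) (π hZ ≫ u)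
  refine ⟨Y, h ≫ (π hZ).val, fun t => b ⟨t.1, hT t.2⟩, fun t => ?_, ?_⟩
  · rw [hb ⟨t.1, hT t.2⟩, ← hπ hZ (htO ⟨t.1, hT t.2⟩) (f := a t)
      (Finset.mem_image.2 ⟨t, Finset.mem_univ _, rfl⟩),
      CategoryOfElements.comp_val, Category.assoc]
  · rwa [Category.assoc, ← CategoryOfElements.comp_val]

theorem exists_choice (hx : Avoids (J := J) S P x₀) :
    ∃ c : ∀ t : Task J P, Fin t.n, ∀ T : Finset (Task J P), Good J S P x₀ T (fun t => c t.1) := by
  classical
  choose g hg using exists_good hx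
  obtain ⟨c, hc⟩ := Finset.rado_selection_subtype (β := fun t : Task J P => Fin t.n) g
  refine ⟨c, fun T => ?_⟩
  obtain ⟨T', hT, hTT'⟩ := hc T
  rw [show (fun t : T => c t.1) = fun t : T => g T' ⟨t.1, hT t.2⟩ from funext fun t => hTT' t]
  exact good_mono hT (g T') (hg T')

variable (c : ∀ t : Task J P, Fin t.n)

/-- The index category of the next functor. -/
@[nolint unusedArguments]
structure Idx (_ : ∀ t : Task J P, Fin t.n) : Type u where
  T : Finset (Task J P)
  Z : P.Elements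
  a : ∀ t : T, Z ⟶ t.1.tgt

variable {c}

@[ext]
structure Idx.Hom (k' k : Idx c) : Type u where
  g : k'.Z ⟶ k.Z
  hT : k.T ⊆ k'.T
  w : ∀ t : k.T, g ≫ k.a t = k'.a ⟨t.1, hT t.2⟩

instance : Category.{u} (Idx c) where
  Hom := Idx.Hom
  id k := ⟨𝟙 _, Finset.Subset.refl _, fun t => by simp⟩
  comp {k k' k''} f f' :=
    ⟨f.g ≫ f'.g, f'.hT.trans f.hT, fun t => by
      rw [Category.assoc, f'.w t, f.w ⟨t.1, f'.hT t.2⟩]⟩
  id_comp f := Idx.Hom.ext (Category.id_comp _)
  comp_id f := Idx.Hom.ext (Category.comp_id _)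
  assoc f f' f'' := Idx.Hom.ext (Category.assoc _ _ _)

@[simp]
lemma Idx.comp_g {k k' k'' : Idx c} (f : k ⟶ k') (f' : k' ⟶ k'') : (f ≫ f').g = f.g ≫ f'.g := rfl

@[simp]
lemma Idx.id_g (k : Idx c) : (𝟙 k : k ⟶ k).g = 𝟙 _ := rfl

/-- The object with no task. -/
def Idx.bare (c : ∀ t : Task J P, Fin t.n) (Z : P.Elements) : Idx c :=
  ⟨∅, Z, fun t => absurd t.2 (Finset.notMem_empty _)⟩

/-- A map to an object with no task. -/
def Idx.toBare (k : Idx c) {Z : P.Elements} (g : k.Z ⟶ Z) : k ⟶ Idx.bare c Z :=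
  ⟨g, Finset.empty_subset _, fun t => absurd t.2 (Finset.notMem_empty _)⟩

instance : IsCofiltered (Idx c) where
  nonempty := ⟨Idx.bare c IsCofiltered.nonempty.some⟩
  cone_objs k k' := by
    classical
    let T := k.T ∪ k'.T
    let O : Finset P.Elements := insert k.Z (insert k'.Z (T.image (fun t => t.tgt)))
    have hk : k.Z ∈ O := Finset.mem_insert_self _ _
    have hk' : k'.Z ∈ O := Finset.mem_insert_of_mem (Finset.mem_insert_self _ _)
    have htO : ∀ t : T, t.1.tgt ∈ O := fun t => Finset.mem_insert_of_mem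
      (Finset.mem_insert_of_mem (Finset.mem_image_of_mem _ t.2))
    let H : Finset (Σ' (X Y : P.Elements) (_ : X ∈ O) (_ : Y ∈ O), X ⟶ Y) :=
      (Finset.univ.image fun t : k.T =>
        ⟨k.Z, t.1.tgt, hk, htO ⟨t.1, Finset.mem_union_left _ t.2⟩, k.a t⟩) ∪
      (Finset.univ.image fun t : k'.T =>
        ⟨k'.Z, t.1.tgt, hk', htO ⟨t.1, Finset.mem_union_right _ t.2⟩, k'.a t⟩)
    obtain ⟨Z₀, π, hπ⟩ := IsCofiltered.inf_exists O H
    refine ⟨⟨T, Z₀, fun t => π (htO t)⟩,
      ⟨π hk, Finset.subset_union_left, fun t =>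
        hπ hk (htO ⟨t.1, Finset.mem_union_left _ t.2⟩) (f := k.a t) ?_⟩,
      ⟨π hk', Finset.subset_union_right, fun t =>
        hπ hk' (htO ⟨t.1, Finset.mem_union_right _ t.2⟩) (f := k'.a t) ?_⟩, trivial⟩
    · exact Finset.mem_union_left _ (Finset.mem_image.2 ⟨t, Finset.mem_univ _, rfl⟩)
    · exact Finset.mem_union_right _ (Finset.mem_image.2 ⟨t, Finset.mem_univ _, rfl⟩)
  cone_maps k' k f f' :=
    ⟨⟨k'.T, IsCofiltered.eq f.g f'.g, fun t => IsCofiltered.eqHom _ _ ≫ k'.a t⟩,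
      ⟨IsCofiltered.eqHom _ _, Finset.Subset.refl _, fun _ => rfl⟩,
      Idx.Hom.ext (IsCofiltered.eq_condition f.g f'.g)⟩

instance : InitiallySmall.{u} (Idx c) :=
  initiallySmall_of_essentiallySmall _

namespace Idx

/-- The product of the chosen members. -/
noncomputable def prodV (k : Idx c) : C := ∏ᶜ fun t : k.T => t.1.V (c t.1)

/-- The map from the product of the chosen members. -/
noncomputable def prodG (k : Idx c) : k.prodV ⟶ ∏ᶜ fun t : k.T => t.1.tgt.1 :=
  Limits.Pi.map fun t : k.T => t.1.g (c t.1)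

/-- The object attached to an index: all chosen members pulled back to the base. -/
noncomputable def X (k : Idx c) : C :=
  pullback (Pi.lift fun t => (k.a t).val : k.Z.1 ⟶ _) k.prodG

/-- The projection to the base. -/
noncomputable def fst (k : Idx c) : k.X ⟶ k.Z.1 := pullback.fst _ _

/-- The projection to a chosen member. -/
noncomputable def snd (k : Idx c) (t : k.T) : k.X ⟶ t.1.V (c t.1) :=
  pullback.snd _ _ ≫ Pi.π _ t

@[reassoc]
lemma snd_g (k : Idx c) (t : k.T) : k.snd t ≫ t.1.g (c t.1) = k.fst ≫ (k.a t).val := by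
  have h := congrArg (fun f => f ≫ Pi.π (fun t : k.T => t.1.tgt.1) t)
    (pullback.condition (f := (Pi.lift fun t => (k.a t).val : k.Z.1 ⟶ _)) (g := k.prodG))
  simp only [prodG, Category.assoc, Limits.Pi.map_π, Pi.lift_π] at h
  simpa [snd, fst, prodG] using h.symm

lemma hom_ext {k : Idx c} {Y : C} {f f' : Y ⟶ k.X} (h₁ : f ≫ k.fst = f' ≫ k.fst)
    (h₂ : ∀ t, f ≫ k.snd t = f' ≫ k.snd t) : f = f' := by
  refine pullback.hom_ext h₁ (Pi.hom_ext _ _ fun t => ?_)
  simp only [Category.assoc]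
  simpa only [snd] using h₂ t

/-- Lifts into the object attached to an index. -/
noncomputable def lift (k : Idx c) {Y : C} (h : Y ⟶ k.Z.1)
    (b : ∀ t : k.T, Y ⟶ t.1.V (c t.1)) (w : ∀ t, b t ≫ t.1.g (c t.1) = h ≫ (k.a t).val) :
    Y ⟶ k.X :=
  pullback.lift h (Pi.lift b) (Pi.hom_ext _ _ fun t => by simp [prodG, w])

@[reassoc (attr := simp)]
lemma lift_fst (k : Idx c) {Y : C} (h : Y ⟶ k.Z.1)
    (b : ∀ t : k.T, Y ⟶ t.1.V (c t.1)) (w : ∀ t, b t ≫ t.1.g (c t.1) = h ≫ (k.a t).val) :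
    k.lift h b w ≫ k.fst = h :=
  pullback.lift_fst _ _ _

@[reassoc (attr := simp)]
lemma lift_snd (k : Idx c) {Y : C} (h : Y ⟶ k.Z.1)
    (b : ∀ t : k.T, Y ⟶ t.1.V (c t.1)) (w : ∀ t, b t ≫ t.1.g (c t.1) = h ≫ (k.a t).val)
    (t : k.T) : k.lift h b w ≫ k.snd t = b t := by
  rw [snd, lift, pullback.lift_snd_assoc]
  exact Pi.lift_π _ _

end Idx

variable (c) in
/-- The functor `Idx c ⥤ C`. -/
noncomputable def idxFunctor : Idx c ⥤ C where
  obj k := k.X
  map {k' k} f := k.lift (k'.fst ≫ f.g.val) (fun t => k'.snd ⟨t.1, f.hT t.2⟩) fun t => by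
    rw [Category.assoc, ← CategoryOfElements.comp_val, f.w t]
    exact k'.snd_g _
  map_id k := Idx.hom_ext (by simp) fun t => by simp
  map_comp f f' := Idx.hom_ext (by simp) fun t => by simp

@[reassoc (attr := simp)]
lemma idxFunctor_map_fst {k' k : Idx c} (f : k' ⟶ k) :
    (idxFunctor c).map f ≫ k.fst = k'.fst ≫ f.g.val :=
  k.lift_fst _ _ (fun t => by
    rw [Category.assoc, ← CategoryOfElements.comp_val, f.w t]; exact k'.snd_g _)

@[reassoc (attr := simp)]
lemma idxFunctor_map_snd {k' k : Idx c} (f : k' ⟶ k) (t : k.T) :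
    (idxFunctor c).map f ≫ k.snd t = k'.snd ⟨t.1, f.hT t.2⟩ :=
  k.lift_snd _ _ (fun t => by
    rw [Category.assoc, ← CategoryOfElements.comp_val, f.w t]; exact k'.snd_g _) _

open GrothendieckTopology.Point.ofIsCofiltered in
variable (c) in
/-- The map to the next functor. -/
noncomputable def toNext : P ⟶ fiber.{u} (idxFunctor c) where
  app Y := TypeCat.ofHom fun y => fiberMk (p := idxFunctor c)
    (U := Idx.bare c (P.elementsMk Y y)) (Idx.fst _)
  naturality Y Y' f := by
    ext y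
    dsimp
    rw [fiber_map_fiberMk]
    rw [← fiberMk_map_comp (p := idxFunctor c)
      ((Idx.bare c (P.elementsMk Y y)).toBare (Z := P.elementsMk Y' (P.map f y))
        (CategoryOfElements.homMk _ _ f rfl)) (Idx.fst _), idxFunctor_map_fst]
    rfl

open GrothendieckTopology.Point.ofIsCofiltered in
/-- The step. -/
theorem exists_step (hx : Avoids (J := J) S P x₀) :
    ∃ (P' : C ⥤ Type u) (_ : IsCofiltered P'.Elements) (α : P ⟶ P'),
      Avoids (J := J) S P' (α.app U x₀) ∧
      ∀ ⦃W : C⦄ (x : P.obj W) (n : ℕ) (V : Fin n → C) (g : ∀ k, V k ⟶ W),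
        Sieve.ofArrows V g ∈ J W → ∃ (k : Fin n) (y : P'.obj (V k)),
          P'.map (g k) y = α.app W x := by
  classical
  obtain ⟨c, hc⟩ := exists_choice hx
  refine ⟨fiber.{u} (idxFunctor c), inferInstance, toNext c, ?_, ?_⟩
  · rintro ⟨Y, y⟩ ⟨f, hf⟩ hS
    obtain ⟨k, h, rfl⟩ := fiberMk_jointly_surjective y
    let k₀ : Idx c := Idx.bare c (P.elementsMk U x₀)
    obtain ⟨k₁, p₁, p₂, -⟩ := IsCofilteredOrEmpty.cone_objs k k₀
    dsimp [toNext] at f hf
    rw [fiber_map_fiberMk, ← fiberMk_map_comp (idxFunctor c) p₁ (h ≫ f)] at hf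
    erw [← fiberMk_map_comp (idxFunctor c) p₂ (Idx.fst k₀)] at hf
    obtain ⟨k₂, q, hq⟩ := exists_of_fiberMk_eq_fiberMk hf
    obtain ⟨Y', e, b, hb, hbad⟩ := hc k₂.T k₂.Z k₂.a (q ≫ p₂).g
    apply hbad
    have he : e ≫ ((q ≫ p₂).g).val =
        (k₂.lift e b hb ≫ (idxFunctor c).map (q ≫ p₁) ≫ h) ≫ f := by
      simp only [Functor.map_comp, Category.assoc]
      erw [hq, idxFunctor_map_fst, idxFunctor_map_fst_assoc, Idx.lift_fst_assoc]
      rfl
    rw [he, Sieve.pullback_comp]
    exact J.pullback_stable _ hS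
  · intro W x n V g hg
    let t : Task J P := ⟨P.elementsMk W x, n, V, g, hg⟩
    let k : Idx c := ⟨{t}, P.elementsMk W x, fun s =>
      eqToHom (congrArg Task.tgt (Finset.mem_singleton.1 s.2)).symm⟩
    refine ⟨c t, fiberMk (p := idxFunctor c) (U := k) (k.snd ⟨t, Finset.mem_singleton_self t⟩), ?_⟩
    rw [fiber_map_fiberMk]
    erw [k.snd_g ⟨t, Finset.mem_singleton_self t⟩]
    dsimp [toNext]
    rw [← fiberMk_map_comp (p := idxFunctor c) (k.toBare (Z := P.elementsMk W x) (𝟙 _))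
      (Idx.fst _), idxFunctor_map_fst]
    rfl

end GrothLib.Deligne19
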